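import Cfsg.Agent.Lib.LA5.RankTwoIso.MaxThree
import Cfsg.Agent.S3074

/-!
# An isolated element of order `p` in a simple group of `p`-rank at most two
-/

set_option autoImplicit false
set_option linter.style.haveILetI false

namespace Cfsg.Agent.Lib.LA5.RankTwoIso

open scoped commutatorElement
open Cfsg Cfsg.Agent.Lib
open Subgroup

theorem prankLE_of_injective {A B : Type*} [Group A] [Group B] {p k : ℕ} (f : A →* B)
    (hf : Function.Injective f) (h : PRankLE p k B) : PRankLE p k A := by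
  intro E hE hp
  rw [← card_map_of_injective hf]
  haveI := hE
  refine h _ ⟨⟨?_⟩⟩ (by rintro _ ⟨a, ha, rfl⟩; rw [← map_pow, hp a ha, map_one])
  rintro ⟨_, a, ha, rfl⟩ ⟨_, b, hb, rfl⟩
  exact Subtype.ext (by
    show f a * f b = f b * f a
    rw [← map_mul, ← map_mul, setLike_mul_comm ha hb])

theorem sylow_structure {H : Type*} [Group H] [Finite H] {p : ℕ} [hp : Fact p.Prime] (hp2 : p ≠ 2)
    (hrk : PRankLE p 2 H) (hperf : commutator H = ⊤) (T : Sylow p H) {x : H}
    (hxT : x ∈ (T : Subgroup H)) (hx : orderOf x = p) (hiso : IsIsolated x) :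
    (IsExtraspecial p ↥(T : Subgroup H) ∧ Nat.card (T : Subgroup H) = p ^ 3 ∧
        ∀ y ∈ (T : Subgroup H), y ^ p = 1) ∨
      (p = 3 ∧ ∃ k : ℕ, 2 ≤ k ∧ Nat.card (T : Subgroup H) = 3 ^ (2 * k + 1) ∧
        ∃ _ : Group.IsNilpotent ↥(T : Subgroup H), Group.nilpotencyClass ↥(T : Subgroup H) = 2 * k) := by
  set S := (T : Subgroup H) with hS
  have hSp : IsPGroup p S := T.isPGroup'
  have hrkS : PRankLE p 2 S := prankLE_of_injective S.subtype S.subtype_injective hrk
  have hNx : ∀ g ∈ normalizer (S : Set H), g * x * g⁻¹ = x := fun g hg => by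
    rw [mem_centralizer_singleton_iff.1 (LAEven57.normalizer_le_centralizer hiso hSp hxT hg),
      mul_inv_cancel_right]
  set xS : S := ⟨x, hxT⟩
  have hxc : xS ∈ center S := mem_center_iff.2 fun y => Subtype.ext
    (LAEven57.commute_of_mem_pGroup hiso hSp hxT y.2).symm
  have hxp : xS ^ p = 1 := Subtype.ext (hx ▸ pow_orderOf_eq_one x)
  have hx1 : xS ≠ 1 := fun h => by
    rw [show x = 1 from congrArg Subtype.val h, orderOf_one] at hx
    exact hp.out.one_lt.ne hx
  -- no good power map
  have hgood : ¬ Good p S xS := by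
    rintro ⟨hk, q, hom, hcen, t, ht⟩
    letI : CommGroup ↥(center ↥S) :=
      { (inferInstance : Group ↥(center ↥S)) with
        mul_comm := fun a b => Subtype.ext (mem_center_iff.1 b.2 a.1) }
    let θ : ↥S →* ↥(center ↥S) := (MonoidHom.mk' (fun a => a ^ q) hom).codRestrict (center ↥S) hcen
    refine hx1 (ht ▸ congrArg Subtype.val (no_fixed hperf T hk θ t fun g hg hmem => ?_))
    refine Subtype.ext (Subtype.ext ?_)
    show (g * (t : H) * g⁻¹) ^ q = (t : H) ^ q
    rw [conj_pow, show (t : H) ^ q = x from congrArg Subtype.val ht, hNx g hg]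
  by_cases hab : ∀ a b : S, a * b = b * a
  · exact absurd (good_of_comm hp2 hab xS) hgood
  obtain ⟨n, hn⟩ := IsPGroup.iff_card.1 hSp
  have h3 : 3 ≤ n := by
    by_contra hlt
    refine hab ?_
    rcases (show n = 0 ∨ n = 1 ∨ n = 2 by omega) with rfl | rfl | rfl
    · haveI : Subsingleton S := (Nat.card_eq_one_iff_unique.1 (hn.trans (pow_zero p))).1
      exact fun a b => Subsingleton.elim _ _
    · haveI : IsCyclic S := isCyclic_of_prime_card (hn.trans (pow_one p))
      exact fun a b => (IsCyclic.isMulCommutative (α := S)).is_comm.comm a b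
    · haveI := IsPGroup.isMulCommutative_of_card_eq_prime_sq hn
      exact fun a b => IsMulCommutative.is_comm.comm a b
  rcases Nat.eq_or_lt_of_le h3 with rfl | h4
  · by_cases hexp : ∀ y : S, y ^ p = 1
    · push Not at hab
      obtain ⟨a, b, hne⟩ := hab
      exact Or.inl ⟨(Cfsg.Agent.S3074.isExtraspecial_of_card hn hexp hne).1, hn,
        fun y hy => congrArg Subtype.val (hexp ⟨y, hy⟩)⟩
    · push Not at hexp
      obtain ⟨g, hg⟩ := hexp
      exact absurd (good_of_metacyclic hp2 hSp (isMetacyclic_of_card_cube hp2 hn hab hg) hxc) hgood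
  by_cases hmax : p = 3 ∧ (⊤ : Subgroup S).lowerCentralSeries (n - 2) ≠ ⊥
  · obtain ⟨rfl, hne⟩ := hmax
    have hmc : MaxClass.MC 3 n S := ⟨hn, h4, hne⟩
    rcases Nat.even_or_odd n with he | ⟨k, rfl⟩
    · obtain ⟨s, hs, hfix⟩ := exists_fixed_of_even hmc he hxc hx1
      refine absurd ?_ hs
      rw [← Abelianization.ker_of, MonoidHom.mem_ker]
      refine no_fixed hperf T (killed_max hmc hrkS) Abelianization.of s fun g hg hmem => ?_
      set e := Subgroup.normalizerMonoidHom S ⟨g, hg⟩
      have h1 := hfix e (Subtype.ext (hNx g hg))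
      rw [← Abelianization.ker_of, MonoidHom.mem_ker, map_mul, map_inv, mul_inv_eq_one] at h1
      exact h1
    · haveI := hmc.nilpotent
      exact Or.inr ⟨rfl, k, by omega, hn, inferInstance, by rw [hmc.class_eq]; omega⟩
  refine absurd ?_ hgood
  have hclass : p = 3 → n = 4 → (⊤ : Subgroup S).lowerCentralSeries 2 = ⊥ := fun h h' => by
    by_contra hb
    exact hmax ⟨h, by rwa [h', show 4 - 2 = 2 from rfl]⟩
  rcases PGroupTheory.RankTwo.classify hp2 hn hrkS with hm | hm | hm | ⟨h3', -, hne⟩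
  · exact good_of_metacyclic hp2 hSp hm hxc
  · exact good_of_fam hp2 hn h4 hrkS hab hclass hxc hxp (Or.inl hm)
  · exact good_of_fam hp2 hn h4 hrkS hab hclass hxc hxp (Or.inr hm)
  · exact absurd ⟨h3', hne⟩ hmax

end Cfsg.Agent.Lib.LA5.RankTwoIso
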