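import Cfsg.Agent.Lib.LA5.RankTwoIso.Transfer
import Cfsg.Agent.Lib.PGroupTheory.MetacyclicFacts
import Cfsg.Agent.Lib.PGroupTheory.RankTwoMain

/-!
# Rank two `p`-groups in which a central element of order `p` is a power in an equivariant way

`Good p T x`: the deep commutators are killed and a power map is a homomorphism into the centre that
reaches `x`. This covers the abelian, metacyclic and the two exceptional families.
-/

set_option autoImplicit false
set_option linter.style.haveILetI false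
set_option linter.unusedSectionVars false

namespace Cfsg.Agent.Lib.LA5.RankTwoIso

open scoped commutatorElement
open Cfsg Cfsg.Agent.Lib Cfsg.Agent.Lib.PGroupTheory
open Subgroup

variable {T : Type*} [Group T] [Finite T] {p : ℕ} [hp : Fact p.Prime]

/-- See the module docstring. -/
def Good (p : ℕ) (T : Type*) [Group T] (x : T) : Prop :=
  Killed p T ∧ ∃ q : ℕ, (∀ a b : T, (a * b) ^ q = a ^ q * b ^ q) ∧ (∀ a : T, a ^ q ∈ center T) ∧
    ∃ t : T, t ^ q = x

theorem pow_mem_frattini_sub (hT : IsPGroup p T) {M : Subgroup T} {w : T} (hw : w ∈ M) :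
    w ^ p ∈ (frattini ↥M).map M.subtype :=
  ⟨(⟨w, hw⟩ : M) ^ p, PGroups.pow_mem_frattini (hT.to_subgroup M) _, rfl⟩

theorem two_le_pred (hp2 : p ≠ 2) : 2 ≤ p - 1 := by
  have := hp.out.two_le
  omega

theorem good_of_comm (hp2 : p ≠ 2) (hc : ∀ a b : T, a * b = b * a) (x : T) : Good p T x := by
  refine ⟨fun M _ => ?_, 1, fun a b => by simp, fun a => mem_center_iff.2 fun b => by simp [hc], x, pow_one x⟩
  refine ((⊤ : Subgroup T).lowerCentralSeries_antitone (show 1 ≤ p - 1 from le_trans (by omega)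
    (two_le_pred hp2))).trans (le_trans (le_of_eq ?_) bot_le)
  show ⁅(⊤ : Subgroup T), ⊤⁆ = ⊥
  refine le_bot_iff.1 (commutator_le.2 fun a _ b _ => ?_)
  simp [commutatorElement_eq_one_iff_mul_comm, hc a b]

theorem good_of_metacyclic (hp2 : p ≠ 2) (hT : IsPGroup p T) (hmc : Cfsg.IsMetacyclic T) {x : T}
    (hx : x ∈ center T) : Good p T x := by
  obtain ⟨n, hcard, ⟨D⟩⟩ := Metacyclic.exists_coord hp2 hT hmc
  haveI := hT.isNilpotent
  have hcycl : IsCyclic ↥(commutator T) :=
    D.c_gen ▸ (inferInstance : IsCyclic ↥(Subgroup.zpowers D.c))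
  have hR := (isRegularPGroup_iff.1 (isRegularPGroup_of_commutator_cyclic hT hp2 hcycl)).2
  have hexp : ∀ u ∈ commutator T, u ^ p ^ n = 1 := fun u hu =>
    orderOf_dvd_iff_pow_eq_one.1 (hcard ▸ Subgroup.orderOf_dvd_natCard _ hu)
  have hom : ∀ a b : T, (a * b) ^ p ^ n = a ^ p ^ n * b ^ p ^ n := by
    intro a b
    obtain ⟨c, hc, hab⟩ := hR n a b
    have hle : ⁅closure ({a, b} : Set T), closure ({a, b} : Set T)⁆ ≤ commutator T :=
      commutator_mono le_top le_top
    rw [powerClosure_eq_bot fun u hu => hexp u (hle hu), mem_bot] at hc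
    rw [hab, hc, mul_one]
  have hcen : ∀ a : T, a ^ p ^ n ∈ center T := by
    intro a
    refine D.mem_center_of_φ ?_
    have h0 : (p : ZMod (p ^ n)) ^ n = 0 := by rw [← Nat.cast_pow, ZMod.natCast_self]
    obtain ⟨h1, h2⟩ := D.pow_mem_layer (hp.out.odd_of_ne_two hp2) a n
    rw [h0, zero_dvd_iff] at h1 h2
    exact Prod.ext h1 h2
  refine ⟨fun M hM => ?_, p ^ n, hom, hcen, ?_⟩
  · -- deep commutators are powers of commutators
    refine ((⊤ : Subgroup T).lowerCentralSeries_antitone (two_le_pred hp2)).trans fun u hu => ?_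
    have hu' : u ∈ ⁅commutator T, (⊤ : Subgroup T)⁆ := hu
    obtain ⟨k, rfl⟩ := Subgroup.mem_zpowers_iff.1
      (D.c_gen ▸ (Subgroup.commutator_le_left (commutator T) (⊤ : Subgroup T)) hu')
    have hcM : D.c ∈ M :=
      PGroupTheory.commutator_le_of_isCoatom hM (D.c_gen.symm ▸ Subgroup.mem_zpowers D.c)
    by_cases hk : (p : ℤ) ∣ k
    · obtain ⟨l, rfl⟩ := hk
      rw [mul_comm, zpow_mul, zpow_natCast]
      exact pow_mem_frattini_sub hT (M.zpow_mem hcM l)
    · have hbot : commutator T ≤ (⊥ : Subgroup T) := by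
        refine RankTwo.le_of_le_commutator_sup (le_trans ?_ le_sup_left)
        rw [D.c_gen, zpowers_le]
        obtain ⟨a, b, hab⟩ : IsCoprime ((p : ℤ) ^ n) k :=
          (((Nat.prime_iff_prime_int.1 hp.out).coprime_iff_not_dvd).2 hk).pow_left
        have : D.c = (D.c ^ k) ^ b := by
          conv_lhs => rw [← zpow_one D.c, ← hab, zpow_add, mul_comm a, zpow_mul, ← Nat.cast_pow,
            zpow_natCast, ← D.c_order, pow_orderOf_eq_one, one_zpow, one_mul, mul_comm b, zpow_mul]
        have hu'' : D.c ^ k ∈ ⁅Subgroup.zpowers D.c, (⊤ : Subgroup T)⁆ := by rwa [D.c_gen] at hu'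
        have hmem := zpow_mem hu'' b
        rwa [← this] at hmem
      rw [show D.c = 1 from mem_bot.1 (hbot (D.c_gen.symm ▸ Subgroup.mem_zpowers D.c)), one_zpow]
      exact one_mem _
  · let θ : T →* T := MonoidHom.mk' (fun a => a ^ p ^ n) hom
    obtain ⟨t, ht⟩ := (show Cfsg.powerClosure p n (⊤ : Subgroup T) ≤ θ.range from
      (closure_le _).2 (by rintro _ ⟨a, -, rfl⟩; exact ⟨a, rfl⟩)) (D.center_le hx)
    exact ⟨t, ht⟩

/-! ### The two families -/

theorem comm_le_of_gen {N : Subgroup T} [N.Normal] {S₁ S₂ : Set T}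
    (h : ∀ s ∈ S₁, ∀ t ∈ S₂, Commute (QuotientGroup.mk' N s) (QuotientGroup.mk' N t)) :
    ⁅closure S₁, closure S₂⁆ ≤ N := by
  rw [← QuotientGroup.ker_mk' N, ← Subgroup.map_eq_bot_iff, Subgroup.map_commutator, MonoidHom.map_closure,
    MonoidHom.map_closure, commutator_eq_bot_iff_le_centralizer, closure_le, centralizer_closure]
  rintro _ ⟨s, hs, rfl⟩
  refine mem_centralizer_iff.2 ?_
  rintro _ ⟨t, ht, rfl⟩
  exact (h s hs t ht).eq.symm

theorem card_sup_le (A N : Subgroup T) [N.Normal] :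
    Nat.card (A ⊔ N : Subgroup T) ≤ Nat.card A * Nat.card N := by
  rw [← Nat.card_prod]
  refine Nat.card_le_card_of_surjective
    (fun y : A × N => (⟨(y.1 : T) * y.2, mul_mem (mem_sup_left y.1.2) (mem_sup_right y.2.2)⟩ : ↥(A ⊔ N))) ?_
  rintro ⟨g, hg⟩
  obtain ⟨a, ha, b, hb, rfl⟩ := mem_sup_of_normal_right.1 hg
  exact ⟨(⟨a, ha⟩, ⟨b, hb⟩), rfl⟩

theorem dvd_choose_three {e : ℕ} (he : 2 ≤ e) : 3 ∣ (3 ^ e).choose 3 := by
  obtain ⟨m, hm⟩ : ∃ m, 3 ^ e = m + 1 := ⟨3 ^ e - 1, by have := Nat.one_le_pow e 3 (by norm_num); omega⟩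
  have h := Nat.add_one_mul_choose_eq m 2
  rw [← hm] at h
  have h9 : 3 * 3 ∣ (3 ^ e).choose 3 * 3 := h ▸ Dvd.dvd.mul_right (pow_dvd_pow 3 he) _
  exact Nat.dvd_of_mul_dvd_mul_right (by norm_num) h9

/-- The common presentation of the two families. -/
theorem good_of_presentation (hp2 : p ≠ 2) {n : ℕ} (hn : Nat.card T = p ^ n) (h4 : 4 ≤ n)
    (hrk : PRankLE p 2 T) (hnab : ¬ ∀ a b : T, a * b = b * a)
    (hclass : p = 3 → n = 4 → (⊤ : Subgroup T).lowerCentralSeries 2 = ⊥)
    {x : T} (hx : x ∈ center T) (hxp : x ^ p = 1)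
    {a y z : T} (hgen : closure ({a, y, z} : Set T) = ⊤) (ha : a ^ p = 1) (hy : y ^ p = 1)
    (hz : z ^ p ^ (n - 2) = 1) (hyz : y * z = z * y) {s e : ℕ}
    (hya : a⁻¹ * y * a = y * z ^ (s * p ^ (n - 3))) (hza : a⁻¹ * z * a = y ^ e * z) :
    Good p T x := by
  have hT : IsPGroup p T := IsPGroup.of_card hn
  set q := p ^ (n - 3) with hq
  set ζ := z ^ q with hζ
  have hpq : p ∣ q := dvd_pow_self p (by omega)
  have hζp : ζ ^ p = 1 := by
    rw [hζ, hq, ← pow_mul, ← pow_succ, show n - 3 + 1 = n - 2 by omega, hz]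
  have hyq : y ^ q = 1 := orderOf_dvd_iff_pow_eq_one.1 ((orderOf_dvd_of_pow_eq_one hy).trans hpq)
  have hya' : a⁻¹ * y * a = y * ζ ^ s := by rw [hya, hζ, ← pow_mul, mul_comm]
  have hζc : ζ ∈ center T := by
    have hle : closure ({a, y, z} : Set T) ≤ centralizer ({ζ} : Set T) := by
      refine (closure_le _).2 ?_
      rintro g (rfl | rfl | rfl) <;> rw [SetLike.mem_coe, mem_centralizer_singleton_iff]
      · have h1 : g⁻¹ * ζ * g = ζ := by
          have := conj_pow (i := q) (a := g⁻¹) (b := z)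
          rw [inv_inv] at this
          rw [hζ, ← this, hza, (Commute.pow_left (show Commute y z from hyz) e).mul_pow, ← pow_mul,
            mul_comm e q, pow_mul, hyq, one_pow, one_mul]
        calc g * ζ = g * (g⁻¹ * ζ * g) := by rw [h1]
          _ = ζ * g := by group
      · exact ((show Commute g z from hyz).pow_right q).eq
      · exact (Commute.self_pow g q).eq
    exact mem_center_iff.2 fun g => (mem_centralizer_singleton_iff.1 (hle (hgen ▸ mem_top g)))
  set Z₁ := Subgroup.zpowers ζ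
  haveI hZ₁ : Z₁.Normal := ⟨fun u hu g => by
    rwa [mem_center_iff.1 ((zpowers_le.2 hζc : Z₁ ≤ center T) hu) g, mul_inv_cancel_right]⟩
  set Y := closure ({y, ζ} : Set T)
  have hζc' : ∀ g, Commute ζ g := fun g => (mem_center_iff.1 hζc g).symm
  have hYtop : ⁅Y, (⊤ : Subgroup T)⁆ ≤ Z₁ := by
    rw [← hgen]
    refine comm_le_of_gen ?_
    rintro u (rfl | rfl) v hv
    · rcases hv with rfl | rfl | rfl
      · have h1 : QuotientGroup.mk' Z₁ (v⁻¹ * u * v) = QuotientGroup.mk' Z₁ u := by
          have h0 : QuotientGroup.mk' Z₁ (ζ ^ s) = 1 :=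
            (QuotientGroup.eq_one_iff _).2 (pow_mem (Subgroup.mem_zpowers ζ) s)
          rw [hya', map_mul, h0, mul_one]
        rw [map_mul, map_mul, map_inv, mul_assoc, inv_mul_eq_iff_eq_mul] at h1
        exact h1
      · exact Commute.refl _
      · exact (show Commute u v from hyz).map _
    · exact (hζc' v).map _
  haveI hYn : Y.Normal := ⟨fun u hu g => by
    rw [show g * u * g⁻¹ = ⁅u, g⁆⁻¹ * u by group]
    refine mul_mem (inv_mem (?_ : ⁅u, g⁆ ∈ Y)) hu
    exact zpowers_le.2 (subset_closure (by simp)) (hYtop (commutator_mem_commutator hu (mem_top g)))⟩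
  have hcY : commutator T ≤ Y := by
    rw [_root_.commutator_def, ← hgen]
    refine comm_le_of_gen ?_
    have h1 : QuotientGroup.mk' Y y = 1 := (QuotientGroup.eq_one_iff _).2 (subset_closure (by simp))
    have h2 : Commute (QuotientGroup.mk' Y a) (QuotientGroup.mk' Y z) := by
      have h3 : QuotientGroup.mk' Y (a⁻¹ * z * a) = QuotientGroup.mk' Y z := by
        rw [hza, map_mul, map_pow, h1, one_pow, one_mul]
      rw [map_mul, map_mul, map_inv, mul_assoc, inv_mul_eq_iff_eq_mul] at h3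
      exact h3.symm
    rintro u (rfl | rfl | rfl) v (rfl | rfl | rfl)
    all_goals
      first
        | exact Commute.refl _
        | exact h2
        | exact h2.symm
        | exact h1.symm ▸ Commute.one_left _
        | exact h1.symm ▸ Commute.one_right _
  have hYe : Cfsg.IsElementaryAbelian p Y := by
    refine PGroups.elemAb_closure ?_ ?_
    · rintro u (rfl | rfl) v (rfl | rfl)
      exacts [rfl, (hζc' u).eq.symm, (hζc' v).eq, rfl]
    · rintro u (rfl | rfl)
      exacts [hy, hζp]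
  have hl1 : (⊤ : Subgroup T).lowerCentralSeries 1 ≤ Y := hcY
  have hl2 : (⊤ : Subgroup T).lowerCentralSeries 2 ≤ Z₁ := (Subgroup.commutator_mono hl1 le_rfl).trans hYtop
  have hl3 : (⊤ : Subgroup T).lowerCentralSeries 3 = ⊥ := by
    refine le_bot_iff.1 (commutator_le.2 fun u hu g _ => ?_)
    rw [mem_bot, commutatorElement_eq_one_iff_mul_comm]
    exact (mem_center_iff.1 ((zpowers_le.2 hζc : Z₁ ≤ center T) (hl2 hu)) g).symm
  have hexpY : ∀ u ∈ Y, ∀ k, p ∣ k → u ^ k = 1 := fun u hu k hk =>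
    orderOf_dvd_iff_pow_eq_one.1 ((orderOf_dvd_of_pow_eq_one (PGroups.elemAb_pow hYe hu)).trans hk)
  -- the power map is a homomorphism
  have hom : ∀ u v : T, (u * v) ^ q = u ^ q * v ^ q := by
    intro u v
    obtain ⟨c, hc, huv⟩ := hallPetrescu u v q
    rw [huv, List.prod_eq_one, mul_one]
    intro w hw
    obtain ⟨i, hi, rfl⟩ := List.mem_map.1 hw
    have hi2 : 2 ≤ i := (List.mem_range'_1.1 hi).1
    have hci : c i ∈ (⊤ : Subgroup T).lowerCentralSeries (i - 1) :=
      Subgroup.lowerCentralSeries_mono _ le_top (hc i)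
    rcases lt_or_ge i p with hip | hip
    · exact hexpY _ (hl1 ((⊤ : Subgroup T).lowerCentralSeries_antitone (show 1 ≤ i - 1 by omega) hci)) _
        ((hpq).trans (primePow_dvd_choose hp.out _ i (by omega) hip))
    by_cases hi4 : 4 ≤ i
    · have h0 : c i = 1 := by
        have := (⊤ : Subgroup T).lowerCentralSeries_antitone (show 3 ≤ i - 1 by omega) hci
        rwa [hl3, mem_bot] at this
      rw [h0, one_pow]
    have hp3 : 3 ≤ p := by have := hp.out.two_le; omega
    obtain ⟨rfl, rfl⟩ : i = 3 ∧ p = 3 := by omega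
    rcases eq_or_ne n 4 with h | h
    · have h0 : c 3 = 1 := by
        have : c 3 ∈ (⊤ : Subgroup T).lowerCentralSeries 2 := hci
        rwa [hclass rfl h, mem_bot] at this
      rw [h0, one_pow]
    · exact hexpY _ (hl1 ((⊤ : Subgroup T).lowerCentralSeries_antitone (show 1 ≤ 2 by omega) hci)) _
        (dvd_choose_three (by omega))
  have hcen : ∀ u : T, u ^ q ∈ center T := by
    intro u
    refine mem_center_iff.2 fun g => ?_
    have h1 : (g * u * g⁻¹) ^ q = u ^ q := by
      rw [show g * u * g⁻¹ = u * ⁅u⁻¹, g⁆ by group, hom,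
        hexpY _ (hcY (commutator_mem_commutator (mem_top _) (mem_top _))) q hpq, mul_one]
    rw [conj_pow] at h1
    calc g * u ^ q = g * u ^ q * g⁻¹ * g := by group
      _ = u ^ q * g := by rw [h1]
  have hac : a ∉ center T := by
    intro hac
    have hca : ∀ g, Commute a g := fun g => (mem_center_iff.1 hac g).symm
    refine hnab ?_
    have hI : ∀ u ∈ ({a, y, z} : Set T), ∀ v ∈ ({a, y, z} : Set T), u * v = v * u := by
      rintro u (rfl | rfl | rfl) v (rfl | rfl | rfl)
      exacts [rfl, (hca v).eq, (hca v).eq, (hca u).eq.symm, rfl, hyz, (hca u).eq.symm, hyz.symm, rfl]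
    intro u v
    have hcomm := Subgroup.isMulCommutative_closure hI
    rw [hgen] at hcomm
    exact congrArg Subtype.val (hcomm.is_comm.comm (⟨u, mem_top u⟩ : (⊤ : Subgroup T)) ⟨v, mem_top v⟩)
  have hζ1 : ζ ≠ 1 := by
    intro h1
    have hyc : y ∈ center T := by
      have hle : closure ({a, y, z} : Set T) ≤ centralizer ({y} : Set T) := by
        refine (closure_le _).2 ?_
        rintro g (rfl | rfl | rfl) <;> rw [SetLike.mem_coe, mem_centralizer_singleton_iff]
        · rw [h1, one_pow, mul_one, mul_assoc, inv_mul_eq_iff_eq_mul] at hya'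
          exact hya'.symm
        · exact hyz.symm
      exact mem_center_iff.2 fun g => mem_centralizer_singleton_iff.1 (hle (hgen ▸ mem_top g))
    haveI : (Subgroup.zpowers y).Normal := ⟨fun u hu g => by
      rwa [mem_center_iff.1 ((zpowers_le.2 hyc : Subgroup.zpowers y ≤ center T) hu) g, mul_inv_cancel_right]⟩
    set B := Subgroup.zpowers z ⊔ Subgroup.zpowers y
    have hYB : Y ≤ B := (closure_le _).2 (by
      rintro u (rfl | rfl)
      · exact mem_sup_right (Subgroup.mem_zpowers u)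
      · exact mem_sup_left (pow_mem (Subgroup.mem_zpowers z) q))
    haveI : B.Normal := ⟨fun u hu g => by
      rw [show g * u * g⁻¹ = ⁅g, u⁆ * u by group]
      exact mul_mem (hYB (hcY (commutator_mem_commutator (mem_top g) (mem_top u)))) hu⟩
    have htop : (⊤ : Subgroup T) ≤ Subgroup.zpowers a ⊔ B := by
      rw [← hgen, closure_le]
      rintro u (rfl | rfl | rfl)
      exacts [mem_sup_left (Subgroup.mem_zpowers u), mem_sup_right (mem_sup_right (Subgroup.mem_zpowers u)),
        mem_sup_right (mem_sup_left (Subgroup.mem_zpowers u))]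
    have hz' : orderOf z ≤ q := Nat.le_of_dvd (pow_pos hp.out.pos _) (orderOf_dvd_of_pow_eq_one h1)
    have hle := (card_le_of_le htop).trans ((card_sup_le _ _).trans
      (Nat.mul_le_mul ((Nat.card_zpowers a).trans_le (Nat.le_of_dvd hp.out.pos (orderOf_dvd_of_pow_eq_one ha)))
        ((card_sup_le _ _).trans (Nat.mul_le_mul ((Nat.card_zpowers z).trans_le hz')
          ((Nat.card_zpowers y).trans_le (Nat.le_of_dvd hp.out.pos (orderOf_dvd_of_pow_eq_one hy)))))))
    rw [card_top, hn] at hle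
    rw [hq, ← pow_succ, ← pow_succ', Nat.pow_le_pow_iff_right hp.out.one_lt] at hle
    omega
  have hxZ : x ∈ Z₁ := by
    by_contra hxZ
    set W := closure ({ζ, x} : Set T)
    set A := closure ({ζ, x, a} : Set T)
    have hA : Cfsg.IsElementaryAbelian p A := by
      have hxc : ∀ g, Commute x g := fun g => (mem_center_iff.1 hx g).symm
      refine PGroups.elemAb_closure ?_ ?_
      · rintro u (rfl | rfl | rfl) v (rfl | rfl | rfl)
        exacts [rfl, (hζc' v).eq, (hζc' v).eq, (hζc' u).eq.symm, rfl, (hxc v).eq, (hζc' u).eq.symm,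
          (hxc u).eq.symm, rfl]
      · rintro u (rfl | rfl | rfl)
        exacts [hζp, hxp, ha]
    have hWc : W ≤ center T := (closure_le _).2 (by rintro u (rfl | rfl); exacts [hζc, hx])
    have h01 : (⊥ : Subgroup T) < Z₁ := bot_lt_iff_ne_bot.2 fun h => hζ1 (mem_bot.1 (h ▸ Subgroup.mem_zpowers ζ))
    have h12 : Z₁ < W := lt_of_le_of_ne (zpowers_le.2 (subset_closure (by simp)))
      fun h => hxZ (h ▸ subset_closure (by simp))
    have h23 : W < A := lt_of_le_of_ne (closure_mono (by rintro u (rfl | rfl) <;> simp))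
      fun h => hac (hWc (h ▸ subset_closure (by simp)))
    have e1 := RankTwo.card_mul_le hT h01
    have e2 := RankTwo.card_mul_le hT h12
    have e3 := RankTwo.card_mul_le hT h23
    have e4 := hrk A hA.1 hA.2
    rw [card_bot, mul_one] at e1
    have : p ^ 3 ≤ p ^ 2 := by
      calc p ^ 3 = p * (p * p) := by ring
        _ ≤ Nat.card A := (Nat.mul_le_mul le_rfl ((Nat.mul_le_mul le_rfl e1).trans e2)).trans e3
        _ ≤ p ^ 2 := e4
    rw [Nat.pow_le_pow_iff_right hp.out.one_lt] at this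
    omega
  obtain ⟨k, hk⟩ := Subgroup.mem_zpowers_iff.1 hxZ
  refine ⟨fun M hM => ?_, q, hom, hcen, z ^ k, ?_⟩
  · by_cases h5 : 4 ≤ p
    · exact ((⊤ : Subgroup T).lowerCentralSeries_antitone (show 3 ≤ p - 1 by omega)).trans
        (hl3.le.trans bot_le)
    obtain rfl : p = 3 := by have := hp.out.two_le; omega
    rcases eq_or_ne n 4 with h | h
    · exact (hclass rfl h).le.trans bot_le
    refine hl2.trans (zpowers_le.2 ?_)
    have hzM : z ^ 3 ^ (n - 4) ∈ M := by
      obtain ⟨m, hm⟩ := Nat.exists_eq_add_of_lt (show 4 < n by omega)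
      rw [show n - 4 = m + 1 by omega, pow_succ, pow_mul]
      exact frattini_le_coatom hM (PGroups.pow_mem_frattini hT _)
    rw [hζ, hq, show n - 3 = n - 4 + 1 by omega, pow_succ, pow_mul]
    exact pow_mem_frattini_sub hT hzM
  · rw [← hk, hζ, ← zpow_natCast, ← zpow_mul, ← zpow_natCast, ← zpow_mul, mul_comm]

theorem good_of_fam (hp2 : p ≠ 2) {n : ℕ} (hn : Nat.card T = p ^ n) (h4 : 4 ≤ n) (hrk : PRankLE p 2 T)
    (hnab : ¬ ∀ a b : T, a * b = b * a)
    (hclass : p = 3 → n = 4 → (⊤ : Subgroup T).lowerCentralSeries 2 = ⊥) {x : T} (hx : x ∈ center T)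
    (hxp : x ^ p = 1) (h : RankTwo.Fam1 p n T ∨ RankTwo.Fam2 p n T) : Good p T x := by
  rcases h with ⟨-, a, y, z, hgen, ha, hy, hz, haz, hyz, hya⟩ | ⟨-, s, a, y, z, -, hgen, ha, hy, hz, hyz, hya, hza⟩
  · exact good_of_presentation hp2 hn h4 hrk hnab hclass hx hxp hgen ha hy hz hyz (s := 1) (e := 0)
      (by rw [hya, one_mul]) (by rw [pow_zero, one_mul, mul_assoc, ← haz, inv_mul_cancel_left])
  · exact good_of_presentation hp2 hn h4 hrk hnab hclass hx hxp hgen ha hy hz hyz (s := s) (e := 1)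
      hya (by rw [hza, pow_one])

/-- Groups of order `p ^ 3` that are not of exponent `p` are metacyclic. -/
theorem isMetacyclic_of_card_cube (hp2 : p ≠ 2) (hn : Nat.card T = p ^ 3)
    (hnab : ¬ ∀ a b : T, a * b = b * a) {g : T} (hg : g ^ p ≠ 1) : Cfsg.IsMetacyclic T := by
  have hT : IsPGroup p T := IsPGroup.of_card hn
  obtain ⟨k, hk⟩ := IsPGroup.iff_orderOf.1 hT g
  have hk3 : k ≤ 3 := (Nat.pow_dvd_pow_iff_le_right hp.out.one_lt).1 (hk ▸ hn ▸ _root_.orderOf_dvd_natCard g)
  have hk2 : 2 ≤ k := by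
    by_contra h
    exact hg (orderOf_dvd_iff_pow_eq_one.1 (hk ▸ (pow_dvd_pow p (show k ≤ 1 by omega)).trans (dvd_of_eq (pow_one p))))
  have hk' : k = 2 := by
    by_contra h
    haveI : IsCyclic T := isCyclic_of_orderOf_eq_card g (by rw [hk, hn, show k = 3 by omega])
    obtain ⟨u, hu⟩ := IsCyclic.exists_generator (α := T)
    exact hnab fun a b => by
      obtain ⟨i, rfl⟩ := Subgroup.mem_zpowers_iff.1 (hu a)
      obtain ⟨j, rfl⟩ := Subgroup.mem_zpowers_iff.1 (hu b)
      exact (Commute.zpow_zpow_self u i j).eq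
  have hidx : (Subgroup.zpowers g).index = p := by
    have h1 := (Subgroup.zpowers g).card_mul_index
    rw [Nat.card_zpowers, hk, hk', hn] at h1
    exact Nat.eq_of_mul_eq_mul_left (pow_pos hp.out.pos 2) (h1.trans (pow_succ p 2))
  haveI : (Subgroup.zpowers g).Normal := normal_of_index_eq_minFac_card (by
    rw [hidx, hn, Nat.pow_minFac (by norm_num), hp.out.minFac_eq])
  haveI : Fact p.Prime := hp
  exact ⟨Subgroup.zpowers g, inferInstance, inferInstance,
    isCyclic_of_prime_card (p := p) (by rw [← Subgroup.index_eq_card]; exact hidx)⟩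

end Cfsg.Agent.Lib.LA5.RankTwoIso
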