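import Cfsg.Agent.Lib.LA5.RankTwoIso.Good
import Cfsg.Agent.Lib.MaxClass.Rank

/-!
# `3`-groups of maximal class and rank two

Their deep commutators are killed; when the order is an even power of `3`, every automorphism fixing
a central element of order `3` fixes some element outside the derived subgroup modulo it.
-/

set_option autoImplicit false
set_option linter.style.haveILetI false
set_option linter.unusedSectionVars false

namespace Cfsg.Agent.Lib.LA5.RankTwoIso

open scoped commutatorElement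
open Cfsg Cfsg.Agent.Lib Cfsg.Agent.Lib.MaxClass
open Subgroup

universe u

theorem sq_eq_one_three : ∀ z : ZMod 3, z ≠ 0 → z ^ 2 = 1 := by decide

variable {n : ℕ} {S : Type u} [Group S] [Finite S] [Fact (Nat.Prime 3)]

theorem map_P_one (e : S ≃* S) {x : S} (hx : x ∈ P S 1) : e x ∈ P S 1 := by
  have hl : ∀ (f : S ≃* S) i {g : S}, g ∈ lcs S i → f g ∈ lcs S i := by
    intro f i g hg
    have h1 := Subgroup.mem_map_of_mem f.toMonoidHom hg
    rwa [lcs, Subgroup.map_lowerCentralSeries, Subgroup.map_top_of_surjective _ f.surjective] at h1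
  refine mem_relCentralizer.2 fun a ha => ?_
  have h1 := hl e 3 (mem_relCentralizer.1 hx _ (hl e.symm 1 ha))
  rwa [map_commutatorElement, e.apply_symm_apply] at h1

variable (h : MC 3 n S)
include h

theorem uniform {t : S} (ht : t ∉ P S 1) : Uniform n t := by
  have h4 := h.four_le
  rcases Nat.lt_or_ge 4 n with hn | hn
  · exact h.uniform_of_deg (h.deg le_rfl (Or.inr (by omega))) ht
  · refine h.uniform_of ht fun i h2 hin => ?_
    obtain rfl : i = 2 := by omega
    exact ht

theorem deg_pred : Deg S (n - 1) := by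
  have h4 := h.four_le
  rcases Nat.lt_or_ge 4 n with hn | hn
  · exact (h.deg le_rfl (Or.inr (by omega))).mono (by omega)
  · rw [show n - 1 = 3 by omega]
    exact Deg.three h

/-- A normal subgroup containing an element of the `i`-th layer contains `P i`. -/
theorem P_le_of_normal {N : Subgroup S} [N.Normal] {i : ℕ} (h2 : 2 ≤ i) (hin : i < n) {c : S}
    (hcN : c ∈ N) (hci : c ∈ P S i) (hci' : c ∉ P S (i + 1)) : P S i ≤ N := by
  haveI := h.nilpotent
  refine PGroupTheory.RankTwo.le_of_le_commutator_sup ?_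
  rw [commutator_P_top h2]
  conv_lhs => rw [← h.sup_zpowers_eq (by omega) hin hci hci']
  exact sup_le_sup_left (zpowers_le.2 hcN) _

theorem frattini_map_normal (M : Subgroup S) [M.Normal] : ((frattini ↥M).map M.subtype).Normal :=
  ConjAct.normal_of_characteristic_of_normal

theorem killed_max (hrk : PRankLE 3 2 S) : Killed 3 S := by
  intro M hM
  have h4 := h.four_le
  have hT := h.isPGroup
  haveI := h.nilpotent
  haveI : M.Normal := NormalizerCondition.normal_of_coatom M Group.normalizerCondition_of_isNilpotent hM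
  haveI := frattini_map_normal h M
  show P S 3 ≤ _
  have hP2M : P S 2 ≤ M := PGroupTheory.commutator_le_of_isCoatom hM
  have hcommM : ∀ u ∈ M, ∀ v ∈ M, ⁅u, v⁆ ∈ (frattini ↥M).map M.subtype := fun u hu v hv =>
    ⟨⁅⟨u, hu⟩, ⟨v, hv⟩⁆, PGroups.commutator_le_frattini (hT.to_subgroup M)
      (commutator_mem_commutator (mem_top _) (mem_top _)), rfl⟩
  by_cases hMP : M ≤ P S 1
  swap
  · obtain ⟨g, hgM, hg⟩ := SetLike.not_le_iff_exists.1 hMP
    obtain ⟨a, ha, hag⟩ : ∃ a ∈ P S 2, ⁅a, g⁆ ∉ P S 4 := by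
      by_contra hc
      push Not at hc
      exact hg (mem_relCentralizer.2 hc)
    exact P_le_of_normal h (by omega) (by omega) (hcommM a (hP2M ha) g hgM) (comm_mem (by omega) ha g) hag
  have hMeq : M = P S 1 := le_antisymm hMP (le_of_eq (by
    rcases hM.le_iff.1 (hMP : M ≤ P S 1) with h0 | h0
    exacts [absurd h0 h.P_one_ne_top, h0]))
  rcases Nat.lt_or_ge 4 n with hn | hn
  · obtain ⟨s, hs, hs'⟩ := h.exists_notMem_succ (i := 1) le_rfl (by omega)
    obtain ⟨h1, h2⟩ := h.pow_layer le_rfl (by omega) (j := 1) le_rfl hs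
    exact P_le_of_normal h (by omega) (by omega) (pow_mem_frattini_sub hT (hMeq.symm ▸ hs)) h1
      (h2 hs' (by omega))
  obtain rfl : n = 4 := by omega
  obtain ⟨g, hg, hg3⟩ : ∃ g ∈ P S 1, g ^ 3 ≠ 1 := by
    by_contra hc
    push Not at hc
    obtain ⟨s, hs, hs'⟩ := h.exists_notMem_succ (i := 1) le_rfl (by omega)
    have hz : ∀ z ∈ P S 2, ∀ g ∈ P S 1, Commute z g := fun z hz g hg => by
      rw [← commutatorElement_eq_one_iff_commute]
      exact h.eq_one (i := 2 + 1 + 1) (by omega) (Deg.three h 2 1 (by omega) le_rfl (by omega) z hz g hg)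
    haveI : IsMulCommutative ↥(P S 1) := by
      refine ⟨⟨fun a b => Subtype.ext ?_⟩⟩
      obtain ⟨i, r, hr, ha⟩ := h.exists_coord le_rfl (by omega) hs hs' a.2
      obtain ⟨j, r', hr', hb⟩ := h.exists_coord le_rfl (by omega) hs hs' b.2
      show (a : S) * b = b * a
      rw [ha, hb]
      exact (Commute.mul_left (Commute.mul_right (hz r hr r' (P_succ_le 1 hr')) ((hz r hr s hs).zpow_right j))
        (Commute.mul_right ((hz r' hr' s hs).symm.zpow_left i) ((Commute.refl _).zpow_zpow i j))).eq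
    have := hrk (P S 1) inferInstance hc
    rw [h.card_P le_rfl (by omega)] at this
    norm_num at this
  have hgN := pow_mem_frattini_sub hT (M := M) (hMeq.symm ▸ hg)
  have hg2 : g ^ 3 ∈ P S 2 := h.pow_mem_succ hg
  by_cases hg' : g ^ 3 ∈ P S 3
  · exact P_le_of_normal h (by omega) (by omega) hgN hg' fun hc => hg3 (h.eq_one (by omega) hc)
  · exact (P_succ_le 2).trans (P_le_of_normal h le_rfl (by omega) hgN hg2 hg')

/-- In even order, an automorphism fixing a central element of order `3` is unipotent on some line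
modulo the derived subgroup. -/
theorem exists_fixed_of_even (he : Even n) {x : S} (hx : x ∈ center S) (hx1 : x ≠ 1) :
    ∃ s : S, s ∉ commutator S ∧ ∀ e : S ≃* S, e x = x → e s * s⁻¹ ∈ commutator S := by
  have h4 := h.four_le
  obtain ⟨t, ht⟩ : ∃ t, t ∉ P S 1 := by
    by_contra hne
    push Not at hne
    exact h.P_one_ne_top (eq_top_iff.2 fun g _ => hne g)
  obtain ⟨s, hs, hs'⟩ := h.exists_notMem_succ (i := 1) le_rfl (by omega)
  have hq : Pair n t s := ⟨uniform h ht, hs, hs'⟩
  refine ⟨s, hs', fun e hex => ?_⟩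
  have hxc : ∀ g : S, Commute x g := fun g => (mem_center_iff.1 hx g).symm
  have hxl : x ∈ P S (n - 1) := MC.Uniform.mem_last h hq.uniform (mem_relCentralizer.2 fun a _ => by
    rw [commutatorElement_eq_one_iff_commute.2 (hxc a).symm]
    exact one_mem _) (hxc t)
  obtain ⟨r, hr, m, hm⟩ : ∃ r ∈ P S 1, ∃ m : ℕ, e t = r * t ^ m := by
    have := (h.P_one_sup ht).symm ▸ mem_top (e t)
    obtain ⟨r, hr, v, hv, he⟩ := mem_sup_of_normal_left.1 this
    obtain ⟨m, rfl⟩ := Submonoid.mem_powers_iff _ _ |>.1 (mem_powers_iff_mem_zpowers.2 hv)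
    exact ⟨r, hr, m, he.symm⟩
  set a : ℕ → S := sq t s with ha
  have hcr : ∀ k, 1 ≤ k → k < n → ∀ {u : S}, u ∈ P S (k + 1) → crd 3 (a k) k u = 0 := fun k hk hkn _ hu =>
    h.crd_of_mem_succ hk hkn (h.sq_mem hq hk) (h.sq_notMem hq hk hkn) hu
  -- commutation with `t ^ j`
  have hpow : ∀ k, 1 ≤ k → k + 1 < n → ∀ y ∈ P S k, ∀ j : ℕ,
      crd 3 (a (k + 1)) (k + 1) ⁅y, t ^ j⁆ = (j : ZMod 3) * crd 3 (a k) k y := by
    intro k hk hkn y hy j
    have hs1 := h.sq_mem hq (k := k + 1) (by omega)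
    have hs2 := h.sq_notMem hq (k := k + 1) (by omega) hkn
    induction j with
    | zero =>
      rw [pow_zero, commutatorElement_one_right, hcr (k + 1) (by omega) hkn (one_mem _), Nat.cast_zero,
        zero_mul]
    | succ j ih =>
      rw [show ⁅y, t ^ (j + 1)⁆ = ⁅y, t ^ j⁆ * (t ^ j * ⁅y, t⁆ * (t ^ j)⁻¹) by rw [pow_succ]; group,
        h.crd_mul (by omega) hkn hs1 hs2 (comm_mem hk hy _) ((P_normal _).conj_mem _ (comm_mem hk hy t) _),
        ih, h.crd_conj (by omega) hkn hs1 hs2 (comm_mem hk hy t), h.crd_comm_t hq hk hkn hy,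
        Nat.cast_succ, add_mul, one_mul]
  -- the images of the chain
  have hes : e s ∈ P S 1 := map_P_one e hs
  have key : ∀ k, k + 1 < n → e (a (k + 1)) ∈ P S (k + 1) ∧
      crd 3 (a (k + 1)) (k + 1) (e (a (k + 1))) = (m : ZMod 3) ^ k * crd 3 (a 1) 1 (e s) := by
    intro k
    induction k with
    | zero => exact fun _ => ⟨hes, by rw [pow_zero, one_mul]; rfl⟩
    | succ k ih =>
      intro hk
      obtain ⟨i1, i2⟩ := ih (by omega)
      have hstep : e (a (k + 2)) = ⁅e (a (k + 1)), r * t ^ m⁆ := by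
        rw [← hm, ← map_commutatorElement]
        rfl
      refine ⟨by rw [hstep]; exact comm_mem (by omega) i1 _, ?_⟩
      have hs1 := h.sq_mem hq (k := k + 2) (by omega)
      have hs2 := h.sq_notMem hq (k := k + 2) (by omega) hk
      have h0 : ⁅e (a (k + 1)), r⁆ ∈ P S (k + 2 + 1) :=
        deg_pred h (k + 1) 1 (by omega) le_rfl (by omega) _ i1 _ hr
      rw [show k + 1 + 1 = k + 2 from rfl, hstep,
        show ⁅e (a (k + 1)), r * t ^ m⁆ = ⁅e (a (k + 1)), r⁆ * (r * ⁅e (a (k + 1)), t ^ m⁆ * r⁻¹) by group,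
        h.crd_mul (by omega) hk hs1 hs2 (P_succ_le _ h0)
          ((P_normal _).conj_mem _ (comm_mem (by omega) i1 _) _),
        hcr (k + 2) (by omega) hk h0, zero_add,
        h.crd_conj (by omega) hk hs1 hs2 (comm_mem (by omega) i1 _), hpow (k + 1) (by omega) hk _ i1 m, i2,
        pow_succ']
      ring
  have hlast := key (n - 2) (by omega)
  rw [show n - 2 + 1 = n - 1 by omega] at hlast
  -- the last term is a power of `x`
  have hx' : x ∉ P S (n - 1 + 1) := fun hc => hx1 (h.eq_one (by omega) hc)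
  have hfix : e (a (n - 1)) = a (n - 1) := by
    obtain ⟨b, u, hu, hb⟩ := h.exists_coord (i := n - 1) (by omega) (by omega) hxl hx'
      (h.sq_mem hq (k := n - 1) (by omega))
    rw [h.eq_one (by omega) hu, one_mul] at hb
    show e (sq t s (n - 1)) = sq t s (n - 1)
    rw [hb, map_zpow, hex]
  have hone : (m : ZMod 3) ^ (n - 2) * crd 3 (a 1) 1 (e s) = 1 := by
    rw [← hlast.2, hfix]
    exact h.crd_self (by omega) (by omega) (h.sq_mem hq (by omega)) (h.sq_notMem hq (by omega) (by omega))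
  have hsq := sq_eq_one_three
  have hb : crd 3 (a 1) 1 (e s) = 1 := by
    obtain ⟨l, hl⟩ := he
    rw [show n - 2 = 2 * (l - 1) by omega, pow_mul] at hone
    have hm0 : (m : ZMod 3) ≠ 0 := by
      intro h0
      rw [h0, zero_pow (two_ne_zero), zero_pow (show l - 1 ≠ 0 by omega), zero_mul] at hone
      exact zero_ne_one hone
    rwa [hsq _ hm0, one_pow, one_mul] at hone
  refine h.crd_eq_zero le_rfl (by omega) (h.sq_mem hq le_rfl) (h.sq_notMem hq le_rfl (by omega))
    (mul_mem hes (inv_mem hs)) ?_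
  rw [h.crd_mul le_rfl (by omega) (h.sq_mem hq le_rfl) (h.sq_notMem hq le_rfl (by omega)) hes (inv_mem hs),
    h.crd_inv le_rfl (by omega) (h.sq_mem hq le_rfl) (h.sq_notMem hq le_rfl (by omega)) hs]
  rw [show crd 3 (sq t s 1) 1 (e s) = 1 from hb, show crd 3 (sq t s 1) 1 s = 1 from
    h.crd_self le_rfl (by omega) (h.sq_mem hq le_rfl) (h.sq_notMem hq le_rfl (by omega)), add_neg_cancel]

end Cfsg.Agent.Lib.LA5.RankTwoIso
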