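import Cfsg.Agent.S2792
import Cfsg.Agent.Lib.LAEven57.Isolated
import Cfsg.Agent.Lib.PGroups.Frattini
import Cfsg.Prelude.Def_CaseTheorems

/-!
# A Sylow subgroup of a perfect group: no fixed points in abelian quotients

`Killed p T`: the deep commutators of `T` lie in the Frattini subgroup of every maximal subgroup. Then
Yoshida's theorem gives `T ≤ N(T)'`, so `N(T)` fixes no nontrivial image of `T` in an abelian group.
-/

set_option autoImplicit false
set_option linter.style.haveILetI false
set_option linter.unusedSectionVars false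

namespace Cfsg.Agent.Lib.LA5.RankTwoIso

open scoped commutatorElement
open Subgroup

variable {H : Type*} [Group H] [Finite H] {p : ℕ} [hp : Fact p.Prime]

/-- The iterated commutators lie in the Frattini subgroup of every maximal subgroup. -/
def Killed (p : ℕ) (T : Type*) [Group T] : Prop :=
  ∀ M : Subgroup T, IsCoatom M → (⊤ : Subgroup T).lowerCentralSeries (p - 1) ≤ (frattini ↥M).map M.subtype

theorem iterate_mem_lcs {T : Type*} [Group T] (z u : T) :
    ∀ k, (fun y : T => y⁻¹ * z⁻¹ * y * z)^[k] u ∈ (⊤ : Subgroup T).lowerCentralSeries k := by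
  intro k
  induction k with
  | zero => simp
  | succ k ih =>
    rw [Function.iterate_succ_apply', Subgroup.lowerCentralSeries_succ]
    convert commutator_mem_commutator (inv_mem ih) (mem_top z⁻¹) using 1
    simp [commutatorElement_def]

theorem coe_iterate (T : Subgroup H) (z u : T) :
    ∀ k, (fun y : H => y⁻¹ * (z : H)⁻¹ * y * z)^[k] u = (((fun y : T => y⁻¹ * z⁻¹ * y * z)^[k] u : T) : H) := by
  intro k
  induction k with
  | zero => rfl
  | succ k ih => rw [Function.iterate_succ_apply', Function.iterate_succ_apply', ih]; rfl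

/-- `T ≤ N(T)'` in a perfect group. -/
theorem le_commutator_normalizer (hperf : commutator H = ⊤) (T : Sylow p H)
    (hk : Killed p ↥(T : Subgroup H)) :
    (T : Subgroup H) ≤ ⁅normalizer ((T : Subgroup H) : Set H), normalizer ((T : Subgroup H) : Set H)⁆ := by
  by_contra hne
  have hW : Cfsg.IsWeaklyClosed (T : Subgroup H) (T : Subgroup H) :=
    ⟨le_rfl, fun g hg => eq_of_le_of_card_ge hg (by
      rw [card_map_of_injective (MulAut.conj g).injective])⟩
  obtain ⟨u, hu, z, hz, W₀, hW₀, -, h2⟩ := Cfsg.Agent.S2792.result T (T : Subgroup H) hW fun he => hne (by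
    rw [hperf, inf_top_eq] at he
    exact he.le.trans inf_le_right)
  refine h2 ?_
  rw [show (fun y : H => y⁻¹ * z⁻¹ * y * z)^[p - 1] u = _ from
    coe_iterate (T : Subgroup H) ⟨z, hz⟩ ⟨u, hu⟩ (p - 1)]
  exact mem_map_of_mem _ (hk W₀ hW₀ (iterate_mem_lcs _ _ _))

/-- No nontrivial image of `T` in an abelian group is fixed by `N(T)`. -/
theorem no_fixed (hperf : commutator H = ⊤) (T : Sylow p H) (hk : Killed p ↥(T : Subgroup H))
    {A : Type*} [CommGroup A] (θ : ↥(T : Subgroup H) →* A) (t : ↥(T : Subgroup H))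
    (hfix : ∀ g ∈ normalizer ((T : Subgroup H) : Set H), ∀ h : g * (t : H) * g⁻¹ ∈ (T : Subgroup H),
      θ ⟨_, h⟩ = θ t) : θ t = 1 := by
  classical
  set N := normalizer ((T : Subgroup H) : Set H) with hN
  set T' := (T : Subgroup H).subgroupOf N
  haveI : T'.Normal := normal_in_normalizer
  let φ : ↥T' →* A := θ.comp (subgroupOfEquivOfLe le_normalizer).toMonoidHom
  set tN : ↥N := ⟨t, le_normalizer t.2⟩
  have htc : tN ∈ commutator ↥N := by
    obtain ⟨d, hd, he⟩ : (t : H) ∈ (commutator ↥N).map N.subtype := by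
      rw [map_subtype_commutator]; exact le_commutator_normalizer hperf T hk t.2
    rwa [show tN = d from Subtype.ext he.symm]
  have h0 : MonoidHom.transfer φ tN = 1 := Abelianization.commutator_subset_ker _ htc
  letI : Fintype (↥N ⧸ T') := Fintype.ofFinite _
  have htT : ∀ g : ↥N, g⁻¹ * tN * g ∈ T' := fun g => by
    have := (inferInstance : T'.Normal).conj_mem tN (show tN ∈ T' from t.2) g⁻¹
    simpa using this
  have h1 : ∀ x : ↥N ⧸ T', tN • x = x := fun x => by
    induction x using QuotientGroup.induction_on with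
    | H g =>
      rw [MulAction.Quotient.smul_mk, eq_comm, QuotientGroup.eq, smul_eq_mul, ← mul_assoc]
      exact htT g
  -- the transfer is a power of `θ t`
  have h2 : MonoidHom.transfer φ tN = θ t ^ Nat.card (↥N ⧸ T') := by
    letI : Fintype (Quotient (MulAction.orbitRel (zpowers tN) (↥N ⧸ T'))) := Fintype.ofFinite _
    rw [MonoidHom.transfer_eq_prod_quotient_orbitRel_zpowers_quot]
    have hper : ∀ x : ↥N ⧸ T', Function.minimalPeriod (tN • ·) x = 1 := fun x =>
      Function.minimalPeriod_eq_one_iff_isFixedPt.2 (h1 x)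
    rw [Finset.prod_eq_pow_card (b := θ t) fun q _ => ?_]
    · congr 1
      rw [Finset.card_univ, ← Nat.card_eq_fintype_card]
      refine (Nat.card_congr (Equiv.ofBijective (Quotient.mk _) ⟨fun a b hab => ?_, Quotient.mk_surjective⟩)).symm
      have hr := Quotient.exact hab
      change MulAction.orbitRel _ _ a b at hr
      rw [MulAction.orbitRel_apply] at hr
      obtain ⟨⟨v, hv⟩, rfl⟩ := hr
      obtain ⟨i, rfl⟩ := mem_zpowers_iff.1 hv
      exact MulAction.mem_stabilizer_iff.1
        ((MulAction.stabilizer ↥N b).zpow_mem (MulAction.mem_stabilizer_iff.2 (h1 b)) i)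
    · have hm := QuotientGroup.out_conj_pow_minimalPeriod_mem T' tN q.out
      have he : q.out.out⁻¹ * tN ^ Function.minimalPeriod (tN • ·) q.out * q.out.out =
          q.out.out⁻¹ * tN * q.out.out := by rw [hper, pow_one]
      show θ (subgroupOfEquivOfLe _ ⟨_, hm⟩) = θ t
      set g := q.out.out⁻¹ with hg
      have := hfix (g : H) g.2 (by simpa [hg, tN, T', mem_subgroupOf] using htT q.out.out)
      refine Eq.trans (congrArg θ (Subtype.ext ?_)) this
      simp [subgroupOfEquivOfLe, hper, hg, tN]
  rw [h0] at h2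
  obtain ⟨k, hk'⟩ := IsPGroup.iff_orderOf.1 T.isPGroup' t
  have hcop : (Nat.card (↥N ⧸ T')).Coprime (orderOf t) := by
    rw [hk', ← index_eq_card]
    refine (Nat.Coprime.pow_left k ((hp.out.coprime_iff_not_dvd).2 fun hd => ?_)).symm
    exact T.not_dvd_index (hd.trans ⟨_, (relIndex_mul_index le_normalizer).symm⟩)
  have h3 : orderOf (θ t) ∣ Nat.gcd (Nat.card (↥N ⧸ T')) (orderOf t) :=
    Nat.dvd_gcd (orderOf_dvd_of_pow_eq_one h2.symm) (orderOf_map_dvd θ t)
  rw [hcop] at h3
  exact orderOf_eq_one_iff.1 (Nat.dvd_one.1 h3)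

end Cfsg.Agent.Lib.LA5.RankTwoIso
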